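import Groth.Prelude.Def_CAlg
import Groth.Agent.Gor.Basic
import Groth.Agent.Depth.CM
import Mathlib

/-!
# Linkage in Gorenstein local rings

For a Gorenstein local ring `A` and an ideal `I` with `A ⧸ I` maximal Cohen–Macaulay:
every linear map `I → A` is a multiplication, and `J = ann I` commutes with regular sequences.
-/

set_option autoImplicit false

universe u

open IsLocalRing RingTheory.Sequence
open scoped Pointwise

namespace Groth.Agent.Linkage88

variable {A : Type u} [CommRing A]

/-- `A ⧸ I` is maximal Cohen–Macaulay. -/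
structure IsMCMQuot (A : Type u) [CommRing A] [IsLocalRing A] (I : Ideal A) : Prop where
  cm : LocCoh.IsCohenMacaulayModule A (A ⧸ I)
  dim : ringKrullDim (A ⧸ I) = ringKrullDim A

noncomputable def quotEquiv (I : Ideal A) (x : A) :
    QuotSMulTop x (A ⧸ I) ≃ₗ[A]
      (A ⧸ Ideal.span {x}) ⧸ I.map (Ideal.Quotient.mk (Ideal.span {x})) := by
  let f : (A ⧸ I) →ₗ[A] (A ⧸ Ideal.span {x}) ⧸ I.map (Ideal.Quotient.mk (Ideal.span {x})) :=
    Submodule.liftQ I ((Ideal.Quotient.mkₐ A _).comp (Ideal.Quotient.mkₐ A (Ideal.span {x}))).toLinearMap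
      fun i hi => by
        simp only [LinearMap.mem_ker, AlgHom.toLinearMap_apply, AlgHom.comp_apply, Ideal.Quotient.mkₐ_eq_mk]
        exact Ideal.Quotient.eq_zero_iff_mem.mpr (Ideal.mem_map_of_mem _ hi)
  have hf : Function.Surjective f := fun y => by
    obtain ⟨y, rfl⟩ := Ideal.Quotient.mk_surjective y
    obtain ⟨y, rfl⟩ := Ideal.Quotient.mk_surjective y
    exact ⟨Ideal.Quotient.mk I y, rfl⟩
  refine (Submodule.quotEquivOfEq _ _ ?_).trans (f.quotKerEquivOfSurjective hf)
  ext m
  obtain ⟨a, rfl⟩ := Ideal.Quotient.mk_surjective m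
  rw [Submodule.mem_smul_pointwise_iff_exists, LinearMap.mem_ker]
  show _ ↔ Ideal.Quotient.mk _ (Ideal.Quotient.mk (Ideal.span {x}) a) = 0
  rw [Ideal.Quotient.eq_zero_iff_mem, ← Ideal.mem_comap,
    Ideal.comap_map_of_surjective _ Ideal.Quotient.mk_surjective, ← RingHom.ker_eq_comap_bot, Ideal.mk_ker]
  constructor
  · rintro ⟨b, -, hb⟩
    obtain ⟨b, rfl⟩ := Ideal.Quotient.mk_surjective b
    have : Ideal.Quotient.mk I (x * b - a) = 0 := by
      rw [map_sub, ← hb, sub_eq_zero]; rfl
    rw [Ideal.Quotient.eq_zero_iff_mem] at this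
    rw [show a = -(x * b - a) + x * b by ring]
    exact Submodule.add_mem_sup (neg_mem this) (Ideal.mem_span_singleton'.mpr ⟨b, mul_comm _ _⟩)
  · intro ha
    obtain ⟨i, hi, z, hz, rfl⟩ := Submodule.mem_sup.mp ha
    obtain ⟨b, rfl⟩ := Ideal.mem_span_singleton'.mp hz
    refine ⟨Ideal.Quotient.mk I b, trivial, ?_⟩
    show Ideal.Quotient.mk I (x * b) = _
    rw [Ideal.Quotient.eq]
    rw [show x * b - (i + b * x) = -i by ring]
    exact neg_mem hi

section Gor

variable [LocCoh.IsGorensteinLocalRing A] {I : Ideal A}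

/-- An element regular on `A` is regular on a maximal Cohen–Macaulay quotient. -/
theorem isSMulRegular_quot (hI : IsMCMQuot A I) {x : A} (hx : IsSMulRegular A x) :
    IsSMulRegular (A ⧸ I) x := by
  by_contra hc
  have hmem : x ∈ ⋃ p ∈ associatedPrimes A (A ⧸ I), (p : Set A) := by
    rw [biUnion_associatedPrimes_eq_compl_regular]; exact hc
  obtain ⟨p, hp, hxp⟩ := Set.mem_iUnion₂.mp hmem
  have hpp := Depth.isPrime_of_mem_associatedPrimes hp
  have hdim := Depth.ringKrullDim_quotient_associatedPrime hI.cm hp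
  rw [Module.supportDim_quotient_eq_ringKrullDim, hI.dim] at hdim
  obtain ⟨d, hd⟩ := Gor.Basic.exists_natCast_ringKrullDim (A := A)
  have hmin : p ∈ minimalPrimes A := by
    refine ⟨⟨hpp, bot_le⟩, fun q hq hqp => ?_⟩
    by_contra hne
    have := hq.1
    have h1 := Depth.ringKrullDim_quotient_succ_le (lt_of_le_of_ne hqp fun e => hne e.ge)
    have h2 := ringKrullDim_le_of_surjective (Ideal.Quotient.mk q) Ideal.Quotient.mk_surjective
    rw [hdim, hd] at h1
    rw [hd] at h2
    have h3 := h1.trans h2
    norm_cast at h3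
    omega
  refine Depth.notMem_of_isSMulRegular (M := A) ?_ hx hxp
  refine Module.associatedPrimes.minimalPrimes_annihilator_subset_associatedPrimes A A ?_
  rwa [Module.annihilator_eq_bot.mpr inferInstance]

theorem quotient {x : A} (hxm : x ∈ maximalIdeal A) (hx : IsSMulRegular A x) (hI : IsMCMQuot A I)
    [IsLocalRing (A ⧸ Ideal.span {x})] :
    IsMCMQuot (A ⧸ Ideal.span {x}) (I.map (Ideal.Quotient.mk (Ideal.span {x}))) := by
  have hxI := isSMulRegular_quot hI hx
  have hcm := (Depth.isCohenMacaulayModule_congr (quotEquiv I x)).mp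
    ((Depth.isCohenMacaulayModule_quotSMulTop_iff hxm hxI).mpr hI.cm)
  refine ⟨(Depth.isCohenMacaulayModule_iff_of_surjective (R := A) (S := A ⧸ Ideal.span {x})
    Ideal.Quotient.mk_surjective).mpr hcm, ?_⟩
  have h1 := Module.supportDim_quotSMulTop_succ_eq_supportDim hxI hxm
  rw [Module.supportDim_eq_of_equiv (quotEquiv I x),
    ← Depth.supportDim_of_surjective (R := A) (S := A ⧸ Ideal.span {x}) Ideal.Quotient.mk_surjective,
    Module.supportDim_quotient_eq_ringKrullDim, Module.supportDim_quotient_eq_ringKrullDim, hI.dim,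
    ← ringKrullDim_quotient_span_singleton_succ_eq_ringKrullDim hx hxm] at h1
  exact Depth.withBot_add_one_right_cancel h1

theorem mem_span_mul {x : A} (hxI : IsSMulRegular (A ⧸ I) x) {i : A} (hi : i ∈ I)
    (hix : i ∈ Ideal.span {x}) : ∃ b ∈ I, i = x * b := by
  obtain ⟨b, rfl⟩ := Ideal.mem_span_singleton'.mp hix
  refine ⟨b, ?_, mul_comm _ _⟩
  rw [← Ideal.Quotient.eq_zero_iff_mem]
  refine hxI ?_
  show x • Ideal.Quotient.mk I b = x • (0 : A ⧸ I)
  rw [smul_zero, ← Ideal.Quotient.mk_eq_mk, ← Submodule.Quotient.mk_smul, Submodule.Quotient.mk_eq_zero,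
    smul_eq_mul, mul_comm]
  exact hi

end Gor

/-- Every linear form on `I` is a multiplication. -/
theorem exists_eq_mul : ∀ (d : ℕ) (A : Type u) [CommRing A] [LocCoh.IsGorensteinLocalRing A]
    (I : Ideal A), ringKrullDim A = d → IsMCMQuot A I →
      ∀ φ : I →ₗ[A] A, ∃ c : A, ∀ i : I, φ i = c * i := by
  intro d
  induction d using Nat.strong_induction_on with
  | _ d ih =>
    intro A _ _ I hd hI φ
    obtain ⟨n, hn⟩ := Gor.Basic.exists_hasInjectiveDimensionLT (A := A)
    rcases Gor.Basic.exists_regular_or_socle (A := A) with ⟨x, hxm, hx⟩ | ⟨s, hs⟩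
    · have := Gor.Basic.isLocalRing_quotient A hxm
      have hgor := (Gor.Basic.gorenstein_quotient_iff hxm hx).mp inferInstance
      obtain ⟨e, he⟩ := Gor.Basic.exists_natCast_ringKrullDim (A := A ⧸ Ideal.span {x})
      have hed : e < d := by
        have := ringKrullDim_quotient_span_singleton_succ_eq_ringKrullDim hx hxm
        rw [he, hd] at this
        norm_cast at this
        omega
      have hxI := isSMulRegular_quot hI hx
      let mk := Ideal.Quotient.mk (Ideal.span {x})
      let g : I →ₗ[A] I.map mk :=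
        { toFun := fun i => ⟨mk i, Ideal.mem_map_of_mem _ i.2⟩
          map_add' := fun a b => Subtype.ext (map_add mk (a : A) b)
          map_smul' := fun a b => Subtype.ext (map_mul mk a (b : A)) }
      have hg : Function.Surjective g := fun y => by
        obtain ⟨i, hi, h⟩ := (Ideal.mem_map_iff_of_surjective mk Ideal.Quotient.mk_surjective).mp y.2
        exact ⟨⟨i, hi⟩, Subtype.ext h⟩
      have hdvd : ∀ (ψ : I →ₗ[A] A) (c : A), (∀ i : I, mk (ψ i) = mk c * mk i) →
          ψ ∈ Submodule.span A {I.subtype} ⊔ x • (⊤ : Submodule A (I →ₗ[A] A)) := by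
        intro ψ c hψ
        have hmem : ∀ i : I, ∃ b, x * b = ψ i - c * i := fun i => by
          have : ψ i - c * i ∈ Ideal.span {x} := by
            rw [← Ideal.Quotient.eq_zero_iff_mem, map_sub, map_mul]
            exact sub_eq_zero.mpr (hψ i)
          obtain ⟨b, hb⟩ := Ideal.mem_span_singleton'.mp this
          exact ⟨b, by rw [mul_comm]; exact hb⟩
        choose b hb using hmem
        let χ : I →ₗ[A] A :=
          { toFun := b
            map_add' := fun i j => hx (by
              show x * b (i + j) = x * (b i + b j)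
              rw [mul_add, hb, hb, hb, map_add, Submodule.coe_add]; ring)
            map_smul' := fun a i => hx (by
              show x * b (a • i) = x * (a * b i)
              rw [mul_left_comm, hb, hb, map_smul, Submodule.coe_smul, smul_eq_mul, smul_eq_mul]; ring) }
        rw [show ψ = c • I.subtype + x • χ from LinearMap.ext fun i => by
          show ψ i = c * i + x * b i
          rw [hb]; ring]
        exact Submodule.add_mem_sup (Submodule.smul_mem _ _ (Submodule.mem_span_singleton_self _))
          (Submodule.smul_mem_pointwise_smul _ _ _ trivial)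
      -- every linear form is a multiplication modulo `x`
      have hall : (⊤ : Submodule A (I →ₗ[A] A)) ≤
          Submodule.span A {I.subtype} ⊔ x • (⊤ : Submodule A (I →ₗ[A] A)) := by
        intro ψ _
        let h : I →ₗ[A] A ⧸ Ideal.span {x} := (Submodule.mkQ _).comp ψ
        have hker : LinearMap.ker g ≤ LinearMap.ker h := fun i hi => by
          have h0 : (i : A) ∈ Ideal.span {x} :=
            Ideal.Quotient.eq_zero_iff_mem.mp (congrArg Subtype.val (LinearMap.mem_ker.mp hi))
          obtain ⟨b, hb, hib⟩ := mem_span_mul hxI i.2 h0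
          have hi' : i = x • (⟨b, hb⟩ : I) := Subtype.ext hib
          rw [LinearMap.mem_ker, LinearMap.comp_apply, Submodule.mkQ_apply, Submodule.Quotient.mk_eq_zero,
            hi', map_smul]
          exact Ideal.mem_span_singleton'.mpr ⟨ψ ⟨b, hb⟩, mul_comm _ _⟩
        let φ' : I.map mk →ₗ[A] A ⧸ Ideal.span {x} :=
          ((LinearMap.ker g).liftQ h hker).comp (g.quotKerEquivOfSurjective hg).symm.toLinearMap
        have hφ' : ∀ i, φ' (g i) = h i := fun i => by
          show (LinearMap.ker g).liftQ h hker ((g.quotKerEquivOfSurjective hg).symm (g i)) = _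
          rw [show (g.quotKerEquivOfSurjective hg).symm (g i) = Submodule.Quotient.mk i from
            (g.quotKerEquivOfSurjective hg).symm_apply_eq.mpr rfl, Submodule.liftQ_apply]
        let φ'' : I.map mk →ₗ[A ⧸ Ideal.span {x}] A ⧸ Ideal.span {x} :=
          LinearMap.extendScalarsOfSurjective Ideal.Quotient.mk_surjective φ'
        obtain ⟨c, hc⟩ := ih e hed (A ⧸ Ideal.span {x}) (I.map mk) he (quotient hxm hx hI) φ''
        obtain ⟨c, rfl⟩ := Ideal.Quotient.mk_surjective c
        exact hdvd ψ c fun i => by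
          have := hc (g i)
          show h i = _
          rw [← hφ' i]
          exact this
      have htop : (⊤ : Submodule A (I →ₗ[A] A)) ≤ Submodule.span A {I.subtype} := by
        refine Submodule.le_of_le_smul_of_le_jacobson_bot (I := Ideal.span {x}) Module.Finite.fg_top
          (((Ideal.span_singleton_le_iff_mem _).mpr hxm).trans (maximalIdeal_le_jacobson _)) ?_
        rwa [Submodule.ideal_span_singleton_smul]
      obtain ⟨a, ha⟩ := Submodule.mem_span_singleton.mp (htop (Submodule.mem_top (x := φ)))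
      exact ⟨a, fun i => by rw [← ha]; rfl⟩
    · have hinj := Gor.Basic.injective_of_socle_of_finite_id hs n hn
      obtain ⟨g, hg⟩ := Module.Injective.out (R := A) I.subtype I.injective_subtype φ
      exact ⟨g 1, fun i => by
        rw [← hg i, mul_comm, ← smul_eq_mul, ← map_smul, smul_eq_mul, mul_one]; rfl⟩

section Link

variable [LocCoh.IsGorensteinLocalRing A] {I : Ideal A}

theorem span_colon_eq (hI : IsMCMQuot A I) {x : A} (hxm : x ∈ maximalIdeal A) (hx : IsSMulRegular A x)
    {a : A} : (∀ i ∈ I, a * i ∈ Ideal.span {x}) ↔ a ∈ Submodule.annihilator I ⊔ Ideal.span {x} := by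
  refine ⟨fun h => ?_, fun h i hi => ?_⟩
  · choose b hb using fun i : I => Ideal.mem_span_singleton'.mp (h i i.2)
    have hb' : ∀ i : I, x * b i = a * i := fun i => by rw [mul_comm]; exact hb i
    let φ : I →ₗ[A] A :=
      { toFun := b
        map_add' := fun i j => hx (by
          show x * b (i + j) = x * (b i + b j)
          rw [mul_add, hb', hb', hb', Submodule.coe_add]; ring)
        map_smul' := fun s i => hx (by
          show x * b (s • i) = x * (s * b i)
          rw [mul_left_comm, hb', hb', Submodule.coe_smul, smul_eq_mul]; ring) }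
    obtain ⟨d, hd⟩ := Gor.Basic.exists_natCast_ringKrullDim (A := A)
    obtain ⟨c, hc⟩ := exists_eq_mul d A I hd hI φ
    rw [show a = (a - x * c) + x * c by ring]
    refine Submodule.add_mem_sup (Submodule.mem_annihilator.mpr fun i hi => ?_)
      (Ideal.mem_span_singleton'.mpr ⟨c, mul_comm _ _⟩)
    rw [smul_eq_mul, sub_mul, ← hb' ⟨i, hi⟩, show b ⟨i, hi⟩ = c * i from hc ⟨i, hi⟩]
    ring
  · obtain ⟨j, hj, z, hz, rfl⟩ := Submodule.mem_sup.mp h
    rw [add_mul, show j * i = 0 from Submodule.mem_annihilator.mp hj i hi, zero_add]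
    exact Ideal.mul_mem_right _ _ hz

theorem annihilator_map (hI : IsMCMQuot A I) {x : A} (hxm : x ∈ maximalIdeal A) (hx : IsSMulRegular A x) :
    Submodule.annihilator (I.map (Ideal.Quotient.mk (Ideal.span {x}))) =
      (Submodule.annihilator I).map (Ideal.Quotient.mk (Ideal.span {x})) := by
  refine le_antisymm (fun y hy => ?_) (Ideal.map_le_iff_le_comap.mpr fun j hj => ?_)
  · obtain ⟨a, rfl⟩ := Ideal.Quotient.mk_surjective y
    have : a ∈ Submodule.annihilator I ⊔ Ideal.span {x} := (span_colon_eq hI hxm hx).mp fun i hi => by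
      rw [← Ideal.Quotient.eq_zero_iff_mem, map_mul]
      exact Submodule.mem_annihilator.mp hy _ (Ideal.mem_map_of_mem _ hi)
    rw [← Ideal.mem_comap, Ideal.comap_map_of_surjective _ Ideal.Quotient.mk_surjective,
      ← RingHom.ker_eq_comap_bot, Ideal.mk_ker]
    exact this
  · refine Submodule.mem_annihilator.mpr fun y hy => ?_
    obtain ⟨i, hi, rfl⟩ := (Ideal.mem_map_iff_of_surjective _ Ideal.Quotient.mk_surjective).mp hy
    rw [smul_eq_mul, ← map_mul, show j * i = 0 from Submodule.mem_annihilator.mp hj i hi, map_zero]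

end Link

theorem map_ofList {B : Type*} [CommRing B] (f : A →+* B) (l : List A) :
    (Ideal.ofList l).map f = Ideal.ofList (l.map f) := Ideal.map_ofList f l

/-- Linkage along a weakly regular sequence. -/
theorem link : ∀ (n : ℕ) (A : Type u) [CommRing A] [LocCoh.IsGorensteinLocalRing A] (I : Ideal A),
    IsMCMQuot A I → ∀ xs : List A, xs.length = n → (∀ x ∈ xs, x ∈ maximalIdeal A) →
      IsWeaklyRegular A xs →
      (∀ a : A, (∀ i ∈ I, a * i ∈ Ideal.ofList xs) ↔ a ∈ Submodule.annihilator I ⊔ Ideal.ofList xs) ∧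
      Submodule.annihilator I ⊓ Ideal.ofList xs ≤ Ideal.ofList xs * Submodule.annihilator I ∧
      IsWeaklyRegular (A ⧸ I) xs ∧ IsWeaklyRegular (A ⧸ Submodule.annihilator I) xs := by
  intro n
  induction n with
  | zero =>
    intro A _ _ I _ xs hlen _ _
    obtain rfl := List.length_eq_zero_iff.mp hlen
    refine ⟨fun a => ?_, ?_, IsWeaklyRegular.nil _ _, IsWeaklyRegular.nil _ _⟩
    · rw [Ideal.ofList_nil, sup_bot_eq, Submodule.mem_annihilator]
      simp only [Submodule.mem_bot, smul_eq_mul]
    · rw [Ideal.ofList_nil, inf_bot_eq]; exact bot_le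
  | succ n ih =>
    intro A _ _ I hI xs hlen hm hreg
    obtain ⟨x, xs, rfl⟩ : ∃ x l, xs = x :: l := by
      cases xs with
      | nil => simp at hlen
      | cons a l => exact ⟨a, l, rfl⟩
    obtain ⟨hx, hrest⟩ := (isWeaklyRegular_cons_iff' A x xs).mp hreg
    have hxm : x ∈ maximalIdeal A := hm x List.mem_cons_self
    have := Gor.Basic.isLocalRing_quotient A hxm
    have hgor := (Gor.Basic.gorenstein_quotient_iff hxm hx).mp inferInstance
    let mk := Ideal.Quotient.mk (Ideal.span {x})
    have hsurj : Function.Surjective mk := Ideal.Quotient.mk_surjective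
    have : IsLocalHom mk := IsLocalHom.of_surjective mk hsurj
    let e : QuotSMulTop x A ≃ₗ[A] A ⧸ Ideal.span {x} :=
      Submodule.quotEquivOfEq _ _ (by
        rw [← Submodule.ideal_span_singleton_smul, smul_eq_mul, Ideal.mul_top])
    have hrest' : IsWeaklyRegular (A ⧸ Ideal.span {x}) (xs.map mk) :=
      ((LinearEquiv.extendScalarsOfSurjective (R := A) hsurj e).isWeaklyRegular_congr _).mp hrest
    obtain ⟨h1, h2, h3, h4⟩ := ih (A ⧸ Ideal.span {x}) (I.map mk) (quotient hxm hx hI) (xs.map mk)
      (by simpa using hlen)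
      (fun y hy => by
        obtain ⟨z, hz, rfl⟩ := List.mem_map.mp hy
        exact (map_mem_nonunits_iff mk z).mpr (hm z (List.mem_cons_of_mem _ hz))) hrest'
    have hann := annihilator_map hI hxm hx
    have hmem : ∀ (K : Ideal A) (a : A), mk a ∈ K.map mk ↔ a ∈ K ⊔ Ideal.span {x} := fun K a => by
      rw [← Ideal.mem_comap, Ideal.comap_map_of_surjective _ hsurj, ← RingHom.ker_eq_comap_bot,
        Ideal.mk_ker]
    have hcons : Ideal.ofList (x :: xs) = Ideal.ofList xs ⊔ Ideal.span {x} := by
      rw [Ideal.ofList_cons, sup_comm]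
    have hxJ : ∀ b : A, x * b ∈ Submodule.annihilator I → b ∈ Submodule.annihilator I := fun b hb => by
      refine Submodule.mem_annihilator.mpr fun i hi => hx ?_
      show x * (b * i) = x * 0
      rw [← mul_assoc, mul_zero]
      exact Submodule.mem_annihilator.mp hb i hi
    refine ⟨fun a => ?_, ?_, ?_, ?_⟩
    · rw [hcons, ← sup_assoc, ← hmem, Ideal.map_sup, ← hann, map_ofList, ← h1 (mk a)]
      constructor
      · intro h y hy
        obtain ⟨i, hi, rfl⟩ := (Ideal.mem_map_iff_of_surjective mk hsurj).mp hy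
        rw [← map_mul, ← map_ofList, hmem]
        exact h i hi
      · intro h i hi
        rw [← hmem, map_ofList, map_mul]
        exact h _ (Ideal.mem_map_of_mem _ hi)
    · intro a ha
      have ha' : mk a ∈ Submodule.annihilator (I.map mk) ⊓ Ideal.ofList (xs.map mk) := by
        rw [hann, ← map_ofList]
        refine ⟨Ideal.mem_map_of_mem _ ha.1, ?_⟩
        rw [SetLike.mem_coe, hmem, ← hcons]
        exact ha.2
      have h2a := h2 ha'
      rw [hann, ← map_ofList, ← Ideal.map_mul, hmem] at h2a
      obtain ⟨u, hu, z, hz, rfl⟩ := Submodule.mem_sup.mp h2a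
      obtain ⟨b, rfl⟩ := Ideal.mem_span_singleton'.mp hz
      have hb : b ∈ Submodule.annihilator I := by
        refine hxJ b ?_
        have := sub_mem ha.1 (Ideal.mul_le_right (I := Ideal.ofList xs) hu)
        rwa [add_sub_cancel_left, mul_comm] at this
      refine add_mem (Ideal.mul_mono_left (by rw [hcons]; exact le_sup_left) hu) ?_
      rw [mul_comm b x]
      exact Ideal.mul_mem_mul (by rw [hcons]; exact Ideal.mem_sup_right (Ideal.mem_span_singleton_self x)) hb
    · exact (isWeaklyRegular_cons_iff _ _ _).mpr ⟨isSMulRegular_quot hI hx,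
        ((quotEquiv I x).isWeaklyRegular_congr xs).mpr
          ((isWeaklyRegular_map_algebraMap_iff (A ⧸ Ideal.span {x}) _ xs).mp h3)⟩
    · refine (isWeaklyRegular_cons_iff _ _ _).mpr ⟨fun u v huv => ?_, ?_⟩
      · obtain ⟨u, rfl⟩ := Ideal.Quotient.mk_surjective u
        obtain ⟨v, rfl⟩ := Ideal.Quotient.mk_surjective v
        refine Ideal.Quotient.eq.mpr (hxJ _ ?_)
        rw [mul_sub]
        exact Ideal.Quotient.eq.mp huv
      · refine ((quotEquiv (Submodule.annihilator I) x).isWeaklyRegular_congr xs).mpr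
          ((isWeaklyRegular_map_algebraMap_iff (A ⧸ Ideal.span {x}) _ xs).mp ?_)
        rw [← hann]
        exact h4

end Groth.Agent.Linkage88
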