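import Groth.Agent.Linkage88.Basic
import Groth.Agent.RegLoc.Miracle
import Groth.Agent.RegLoc.Basic
import Mathlib

/-!
# Flatness of the two halves of a linkage
-/

set_option autoImplicit false

universe u

open IsLocalRing RingTheory.Sequence

namespace Groth.Agent.Linkage88

variable {A : Type u} [CommRing A] [LocCoh.IsGorensteinLocalRing A] {I : Ideal A}

theorem isMCMQuot [LocCoh.IsCohenMacaulayLocalRing (A ⧸ I)] (hI : ringKrullDim (A ⧸ I) = ringKrullDim A) :
    IsMCMQuot A I :=
  ⟨(Depth.isCohenMacaulayModule_iff_of_surjective (R := A) (S := A ⧸ I) Ideal.Quotient.mk_surjective).mp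
    (Depth.isCohenMacaulayModule_self (A ⧸ I)), hI⟩

theorem isCohenMacaulay_annihilator (hI : IsMCMQuot A I) (h : Submodule.annihilator I ≠ ⊤) :
    LocCoh.IsCohenMacaulayLocalRing (A ⧸ Submodule.annihilator I) := by
  let J := Submodule.annihilator I
  have : Nontrivial (A ⧸ J) := Ideal.Quotient.nontrivial_iff.mpr h
  have : IsLocalRing (A ⧸ J) := IsLocalRing.of_surjective' (Ideal.Quotient.mk J) Ideal.Quotient.mk_surjective
  rw [Depth.isCohenMacaulayLocalRing_iff,
    Depth.isCohenMacaulayModule_iff_of_surjective (R := A) (S := A ⧸ J) Ideal.Quotient.mk_surjective]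
  obtain ⟨d, hd⟩ := Gor.Basic.exists_natCast_ringKrullDim (A := A)
  have hA : LocCoh.IsCohenMacaulayModule A A := Depth.isCohenMacaulayLocalRing_iff.mp
    (Gor.Basic.isCohenMacaulay_of_gorenstein A)
  rw [LocCoh.IsCohenMacaulayModule, Module.supportDim_self_eq_ringKrullDim, hd] at hA
  have hdep : LocCoh.depth A A = d := by exact_mod_cast hA.symm
  obtain ⟨xs, hreg, hmem, hlen⟩ := Depth.exists_isWeaklyRegular_of_le_idealDepth (M := A)
    (I := maximalIdeal A) (Depth.smul_top_ne_top_of_le_maximalIdeal le_rfl) (n := d) (hdep.ge)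
  obtain ⟨-, -, -, hJ⟩ := link xs.length A I hI xs rfl hmem hreg
  have h1 : (d : ℕ∞) ≤ LocCoh.depth A (A ⧸ J) := by
    rw [Depth.depth_eq_idealDepth, ← hlen]
    exact Depth.le_idealDepth_of_isWeaklyRegular hJ hmem
  refine le_antisymm ?_ Depth.depth_le_supportDim
  refine (Module.supportDim_le_ringKrullDim A _).trans ?_
  rw [hd]
  exact WithBot.coe_le_coe.mpr h1

variable {R : Type u} [CommRing R] [IsRegularLocalRing R] [Algebra R A] [IsLocalHom (algebraMap R A)]

/-- A quotient on which a regular system of parameters stays regular and which is CM is flat. -/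
theorem flat_quotient (K : Ideal A) (hK : K ≤ maximalIdeal A) (hcm : LocCoh.IsCohenMacaulayLocalRing (A ⧸ K))
    {xs : List R} (hxs : Ideal.ofList xs = maximalIdeal R) (hlen : ringKrullDim R = xs.length)
    (hreg : IsWeaklyRegular (A ⧸ K) (xs.map (algebraMap R A))) : Module.Flat R (A ⧸ K) := by
  have : IsLocalRing (A ⧸ K) := hcm.toIsLocalRing
  have : IsLocalHom (Ideal.Quotient.mk K) := IsLocalHom.of_surjective _ Ideal.Quotient.mk_surjective
  have : IsLocalHom (algebraMap R (A ⧸ K)) := by
    rw [IsScalarTower.algebraMap_eq R A (A ⧸ K)]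
    exact RingHom.isLocalHom_comp _ _
  refine RegLoc.Miracle.flat_of_ringKrullDim_eq_add ?_
  have hw : IsWeaklyRegular (A ⧸ K) (xs.map (algebraMap R (A ⧸ K))) := by
    have := (isWeaklyRegular_map_algebraMap_iff (A ⧸ K) (A ⧸ K) (xs.map (algebraMap R A))).mpr hreg
    rwa [List.map_map, ← RingHom.coe_comp, ← IsScalarTower.algebraMap_eq R A (A ⧸ K)] at this
  have hr : IsRegular (A ⧸ K) (xs.map (algebraMap R (A ⧸ K))) := by
    refine ⟨hw, fun h => ?_⟩
    have hle : Ideal.ofList (xs.map (algebraMap R (A ⧸ K))) ≤ maximalIdeal (A ⧸ K) := by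
      rw [← Ideal.map_ofList, hxs]
      exact ((local_hom_TFAE (algebraMap R (A ⧸ K))).out 0 2 rfl rfl).mp inferInstance
    rw [smul_eq_mul, Ideal.mul_top] at h
    exact (maximalIdeal.isMaximal (A ⧸ K)).ne_top (top_le_iff.mp (h.le.trans hle))
  have := ringKrullDim_add_length_eq_ringKrullDim_of_isRegular _ hr
  rw [List.length_map, ← Ideal.map_ofList, hxs] at this
  rw [← this, hlen, add_comm]

end Groth.Agent.Linkage88
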